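import Mathlib
import Cfsg.Agent.H74.SL2

/-!
`SL₂(F)` inside the group of additive automorphisms of `F²`: root groups attached to additive
subgroups, semilinearity of the normalizer.
-/

set_option autoImplicit false

open Matrix
open scoped MatrixGroups

namespace H71.NatSL2

variable (F : Type*) [Field F]

/-- The additive automorphisms of `F²`. -/
abbrev AW := (Fin 2 → F) ≃ₗ[ℕ] (Fin 2 → F)

instance finite_AW [Finite F] : Finite (AW F) :=
  Finite.of_injective (fun e => (e : (Fin 2 → F) → (Fin 2 → F))) DFunLike.coe_injective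

/-- The natural action of `SL₂(F)`. -/
def slHom : SL(2, F) →* AW F where
  toFun A :=
    { toFun := fun w => (A : Matrix (Fin 2) (Fin 2) F).mulVec w
      invFun := fun w => ((A⁻¹ : SL(2, F)) : Matrix (Fin 2) (Fin 2) F).mulVec w
      left_inv := fun w => by
        simp only [Matrix.mulVec_mulVec, ← Matrix.SpecialLinearGroup.coe_mul, inv_mul_cancel,
          Matrix.SpecialLinearGroup.coe_one, Matrix.one_mulVec]
      right_inv := fun w => by
        simp only [Matrix.mulVec_mulVec, ← Matrix.SpecialLinearGroup.coe_mul, mul_inv_cancel,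
          Matrix.SpecialLinearGroup.coe_one, Matrix.one_mulVec]
      map_add' := fun a b => Matrix.mulVec_add _ a b
      map_smul' := fun n a => Matrix.mulVec_smul _ n a }
  map_one' := by
    apply LinearEquiv.ext
    intro w
    exact Matrix.one_mulVec w
  map_mul' A B := by
    apply LinearEquiv.ext
    intro w
    exact (Matrix.mulVec_mulVec w _ _).symm

/-- The image of `SL₂(F)`. -/
def sl : Subgroup (AW F) := (slHom F).range

/-- The coordinate line. -/
def U0 : AddSubgroup (Fin 2 → F) where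
  carrier := {w | w 1 = 0}
  add_mem' := fun {a b} ha hb => by
    simp only [Set.mem_ofPred_eq, Pi.add_apply] at ha hb ⊢
    rw [ha, hb, add_zero]
  zero_mem' := rfl
  neg_mem' := fun {a} ha => by
    simp only [Set.mem_ofPred_eq, Pi.neg_apply] at ha ⊢
    rw [ha, neg_zero]

variable {F}

theorem slHom_apply (A : SL(2, F)) (w : Fin 2 → F) :
    slHom F A w = (A : Matrix (Fin 2) (Fin 2) F).mulVec w := rfl

theorem slHom_smul (A : SL(2, F)) (c : F) (w : Fin 2 → F) :
    slHom F A (c • w) = c • slHom F A w := Matrix.mulVec_smul _ c w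

theorem slHom_zero_apply (A : SL(2, F)) (w : Fin 2 → F) :
    slHom F A w 0 = A 0 0 * w 0 + A 0 1 * w 1 := by
  simp [slHom_apply, Matrix.mulVec, dotProduct, Fin.sum_univ_two]

theorem slHom_one_apply (A : SL(2, F)) (w : Fin 2 → F) :
    slHom F A w 1 = A 1 0 * w 0 + A 1 1 * w 1 := by
  simp [slHom_apply, Matrix.mulVec, dotProduct, Fin.sum_univ_two]

theorem slHom_injective : Function.Injective (slHom F) := by
  intro A B h
  apply Subtype.ext
  ext i j
  have := congrFun (congrArg (fun f : AW F => f (Pi.single j 1)) h) i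
  simpa [slHom_apply] using this

theorem mem_U0 {w : Fin 2 → F} : w ∈ U0 F ↔ w 1 = 0 := Iff.rfl

theorem eq_smul_of_mem_U0 {w : Fin 2 → F} (h : w ∈ U0 F) : w = w 0 • (![1, 0] : Fin 2 → F) := by
  funext i
  fin_cases i
  · simp
  · simp [mem_U0.1 h]

theorem smul_mem_U0 {w : Fin 2 → F} (h : w ∈ U0 F) (c : F) : c • w ∈ U0 F := by
  rw [mem_U0] at h ⊢
  simp [h]

theorem card_U0 : Nat.card (U0 F) = Nat.card F := by
  refine Nat.card_congr ⟨fun w => w.1 0, fun c => ⟨![c, 0], rfl⟩, fun w => ?_, fun c => rfl⟩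
  apply Subtype.ext
  funext i
  fin_cases i
  · rfl
  · exact (mem_U0.1 w.2).symm

theorem exists_smul_of_mem_U0 {v w : Fin 2 → F} (hv : v ∈ U0 F) (hv0 : v ≠ 0) (hw : w ∈ U0 F) :
    ∃ c : F, w = c • v := by
  have h0 : v 0 ≠ 0 := fun h => hv0 (by
    funext i
    fin_cases i
    · exact h
    · exact mem_U0.1 hv)
  refine ⟨w 0 / v 0, ?_⟩
  funext i
  fin_cases i
  · simp [div_mul_cancel₀ _ h0]
  · simp [mem_U0.1 hv, mem_U0.1 hw]

/-- `SL₂` is transitive on non-zero vectors. -/
theorem exists_map_e0 {w : Fin 2 → F} (hw : w ≠ 0) : ∃ A : SL(2, F), slHom F A ![1, 0] = w := by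
  by_cases h0 : w 0 = 0
  · have h1 : w 1 ≠ 0 := fun h => hw (by funext i; fin_cases i <;> assumption)
    refine ⟨⟨!![0, -(w 1)⁻¹; w 1, 0], by simp [Matrix.det_fin_two, h1]⟩, ?_⟩
    change Matrix.mulVec !![0, -(w 1)⁻¹; w 1, 0] ![1, 0] = w
    funext i
    fin_cases i <;> simp [Matrix.mulVec, dotProduct, Fin.sum_univ_two, h0]
  · refine ⟨⟨!![w 0, 0; w 1, (w 0)⁻¹], by simp [Matrix.det_fin_two, h0]⟩, ?_⟩
    change Matrix.mulVec !![w 0, 0; w 1, (w 0)⁻¹] ![1, 0] = w
    funext i
    fin_cases i <;> simp [Matrix.mulVec, dotProduct, Fin.sum_univ_two]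

/-- Additive maps commuting with `SL₂` are scalars. -/
theorem exists_scalar (f : (Fin 2 → F) →+ (Fin 2 → F))
    (hf : ∀ (A : SL(2, F)) w, f (slHom F A w) = slHom F A (f w)) :
    ∃ k : F, ∀ w, f w = k • w := by
  have h1 := hf (H74.SL2.uT 1) ![1, 0]
  have hu : slHom F (H74.SL2.uT 1) ![1, 0] = ![1, 0] := by
    funext i
    fin_cases i <;> simp [slHom_apply, H74.SL2.coe_uT, Matrix.vecHead]
  rw [hu] at h1
  have h2 := congrFun h1.symm 0
  rw [slHom_zero_apply] at h2
  simp [H74.SL2.coe_uT] at h2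
  refine ⟨f ![1, 0] 0, fun w => ?_⟩
  rcases eq_or_ne w 0 with rfl | hw
  · simp
  obtain ⟨A, hA⟩ := exists_map_e0 hw
  have h3 : f ![1, 0] = f ![1, 0] 0 • (![1, 0] : Fin 2 → F) := eq_smul_of_mem_U0 h2
  rw [← hA, hf, h3, slHom_smul]
  simp

/-! ### Root groups and images of additive subgroups -/

/-- The automorphisms centralizing `U` and the quotient by `U`. -/
def TT (U : AddSubgroup (Fin 2 → F)) : Subgroup (AW F) where
  carrier := {x | (∀ u ∈ U, x u = u) ∧ ∀ w, x w - w ∈ U}
  one_mem' := ⟨fun u _ => rfl, fun w => by simp⟩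
  mul_mem' := by
    rintro a b ⟨ha1, ha2⟩ ⟨hb1, hb2⟩
    refine ⟨fun u hu => by rw [LinearEquiv.mul_apply, hb1 u hu, ha1 u hu], fun w => ?_⟩
    have := U.add_mem (ha2 (b w)) (hb2 w)
    rwa [sub_add_sub_cancel] at this
  inv_mem' := by
    rintro a ⟨ha1, ha2⟩
    refine ⟨fun u hu => ?_, fun w => ?_⟩
    · have := a.symm_apply_apply u
      rwa [ha1 u hu] at this
    · have := U.neg_mem (ha2 (a.symm w))
      rw [a.apply_symm_apply, neg_sub] at this
      exact this

/-- The image of `U` under `g`. -/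
def mv (g : AW F) (U : AddSubgroup (Fin 2 → F)) : AddSubgroup (Fin 2 → F) :=
  U.comap (g⁻¹ : AW F).toLinearMap.toAddMonoidHom

theorem mem_mv {g : AW F} {U : AddSubgroup (Fin 2 → F)} {w : Fin 2 → F} :
    w ∈ mv g U ↔ g⁻¹ w ∈ U := Iff.rfl

theorem inv_apply_apply (g : AW F) (w : Fin 2 → F) : g⁻¹ (g w) = w := g.symm_apply_apply w

theorem apply_inv_apply (g : AW F) (w : Fin 2 → F) : g (g⁻¹ w) = w := g.apply_symm_apply w

theorem apply_mem_mv {g : AW F} {U : AddSubgroup (Fin 2 → F)} {w : Fin 2 → F} :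
    g w ∈ mv g U ↔ w ∈ U := by rw [mem_mv, inv_apply_apply]

theorem mv_one (U : AddSubgroup (Fin 2 → F)) : mv 1 U = U := by
  ext w; rw [mem_mv, inv_one]; rfl

theorem mv_mul (g h : AW F) (U : AddSubgroup (Fin 2 → F)) : mv (g * h) U = mv g (mv h U) := by
  ext w; rw [mem_mv, mem_mv, mem_mv, _root_.mul_inv_rev]; rfl

theorem mv_inf (g : AW F) (U V : AddSubgroup (Fin 2 → F)) :
    mv g (U ⊓ V) = mv g U ⊓ mv g V := rfl

theorem card_mv (g : AW F) (U : AddSubgroup (Fin 2 → F)) : Nat.card (mv g U) = Nat.card U :=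
  Nat.card_congr
    ⟨fun w => ⟨g⁻¹ w.1, w.2⟩, fun u => ⟨g u.1, apply_mem_mv.2 u.2⟩,
      fun w => Subtype.ext (apply_inv_apply g w.1), fun u => Subtype.ext (inv_apply_apply g u.1)⟩

theorem mv_injective (g : AW F) : Function.Injective (mv g) := fun U V h => by
  have := congrArg (mv g⁻¹) h
  rwa [← mv_mul, ← mv_mul, inv_mul_cancel, mv_one, mv_one] at this

theorem mem_TT_mv {g x : AW F} {U : AddSubgroup (Fin 2 → F)} :
    x ∈ TT (mv g U) ↔ g⁻¹ * x * g ∈ TT U := by
  constructor
  · rintro ⟨h1, h2⟩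
    refine ⟨fun u hu => ?_, fun w => ?_⟩
    · rw [LinearEquiv.mul_apply, LinearEquiv.mul_apply, h1 _ (apply_mem_mv.2 hu), inv_apply_apply]
    · have := h2 (g w)
      rw [mem_mv, map_sub, inv_apply_apply] at this
      exact this
  · rintro ⟨h1, h2⟩
    refine ⟨fun u hu => ?_, fun w => ?_⟩
    · have := h1 _ (mem_mv.1 hu)
      rw [LinearEquiv.mul_apply, LinearEquiv.mul_apply, apply_inv_apply] at this
      exact (g⁻¹ : AW F).injective this
    · rw [mem_mv, map_sub]
      have := h2 (g⁻¹ w)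
      rwa [LinearEquiv.mul_apply, LinearEquiv.mul_apply, apply_inv_apply] at this

/-- The stabilizer of `U`. -/
def stab (U : AddSubgroup (Fin 2 → F)) : Subgroup (AW F) where
  carrier := {x | mv x U = U}
  one_mem' := mv_one U
  mul_mem' := fun {a b} ha hb => by
    simp only [Set.mem_ofPred_eq] at ha hb ⊢
    rw [mv_mul, hb, ha]
  inv_mem' := fun {a} ha => by
    simp only [Set.mem_ofPred_eq] at ha ⊢
    apply mv_injective a
    rw [← mv_mul, mul_inv_cancel, mv_one, ha]

theorem mem_stab {x : AW F} {U : AddSubgroup (Fin 2 → F)} : x ∈ stab U ↔ mv x U = U := Iff.rfl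

theorem apply_mem_of_stab {x : AW F} {U : AddSubgroup (Fin 2 → F)} (h : x ∈ stab U)
    {u : Fin 2 → F} (hu : u ∈ U) : x u ∈ U := by
  have := apply_mem_mv (g := x).2 hu
  rwa [mem_stab.1 h] at this

theorem stab_of_forall [Finite F] {x : AW F} {U : AddSubgroup (Fin 2 → F)}
    (h : ∀ u ∈ U, x u ∈ U) : x ∈ stab U := by
  refine AddSubgroup.eq_of_le_of_card_ge (fun w hw => ?_) (card_mv x U).ge
  rw [mem_mv] at hw
  have := h _ hw
  rwa [apply_inv_apply] at this

theorem uT_mem_TT (a : F) : slHom F (H74.SL2.uT a) ∈ TT (U0 F) := by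
  refine ⟨fun u hu => ?_, fun w => ?_⟩
  · rw [mem_U0] at hu
    funext i
    fin_cases i
    · simp [slHom_zero_apply, H74.SL2.coe_uT, hu]
    · simp [slHom_one_apply, H74.SL2.coe_uT, hu]
  · rw [mem_U0, Pi.sub_apply, slHom_one_apply]
    simp [H74.SL2.coe_uT]

theorem uT_fixed {a : F} (ha : a ≠ 0) {w : Fin 2 → F}
    (h : slHom F (H74.SL2.uT a) w = w) : w ∈ U0 F := by
  have := congrFun h 0
  rw [slHom_zero_apply] at this
  simp [H74.SL2.coe_uT, ha] at this
  exact this

/-- In the normalizer of `SL₂`, only root elements centralize `U₀` and its quotient. -/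
theorem exists_uT_of_mem {x : AW F} (hx : x ∈ TT (U0 F))
    (hn : x ∈ Subgroup.normalizer (sl F : Set (AW F))) :
    ∃ a, x = slHom F (H74.SL2.uT a) := by
  set a := x ![0, 1] 0 with ha
  refine ⟨a, ?_⟩
  set t := slHom F (H74.SL2.uT a) with ht
  have ht_mem : t ∈ sl F := ⟨_, rfl⟩
  set y := t⁻¹ * x with hy
  have hyT : y ∈ TT (U0 F) := mul_mem (inv_mem (uT_mem_TT a)) hx
  have hyn : y ∈ Subgroup.normalizer (sl F : Set (AW F)) :=
    mul_mem (inv_mem (Subgroup.le_normalizer ht_mem)) hn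
  have hx1 : x ![0, 1] = t ![0, 1] := by
    funext i
    fin_cases i
    · simp [ht, slHom_zero_apply, H74.SL2.coe_uT, ha]
    · have := hx.2 ![0, 1]
      rw [mem_U0, Pi.sub_apply, sub_eq_zero] at this
      simp [ht, slHom_one_apply, H74.SL2.coe_uT, this]
  have hy1 : y ![0, 1] = ![0, 1] := by
    rw [hy, LinearEquiv.mul_apply, hx1, inv_apply_apply]
  suffices hy' : y = 1 by rwa [hy, inv_mul_eq_one, eq_comm] at hy'
  have hlow : ∀ c : F, y ![0, c] = ![0, c] := by
    intro c
    have hmem := (Subgroup.mem_normalizer_iff.1 hyn (slHom F (H74.SL2.lT c))).1 ⟨_, rfl⟩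
    obtain ⟨A, hA⟩ := hmem
    have h2 := hyT.2 ![0, c]
    rw [mem_U0, Pi.sub_apply, sub_eq_zero] at h2
    have he0 : y⁻¹ ![1, 0] = ![1, 0] := by
      have := (inv_mem hyT).1 ![1, 0] (mem_U0.2 rfl)
      exact this
    have he1 : y⁻¹ ![0, 1] = ![0, 1] := by
      nth_rw 1 [← hy1]
      exact inv_apply_apply y _
    have k0 : slHom F A ![1, 0] = y ![1, c] := by
      rw [hA, LinearEquiv.mul_apply, LinearEquiv.mul_apply, he0]
      congr 1
      funext i
      fin_cases i <;> simp [slHom_apply, H74.SL2.coe_lT, Matrix.vecHead]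
    have k1 : slHom F A ![0, 1] = ![0, 1] := by
      rw [hA, LinearEquiv.mul_apply, LinearEquiv.mul_apply, he1]
      have : slHom F (H74.SL2.lT c) ![0, 1] = ![0, 1] := by
        funext i
        fin_cases i <;> simp [slHom_apply, H74.SL2.coe_lT, Matrix.vecHead, Matrix.vecTail]
      rw [this, hy1]
    have hsplit : (![1, c] : Fin 2 → F) = ![1, 0] + ![0, c] := by
      funext i; fin_cases i <;> simp
    rw [hsplit, map_add, hyT.1 ![1, 0] (mem_U0.2 rfl)] at k0
    have a00 : A 0 0 = 1 + y ![0, c] 0 := by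
      have := congrFun k0 0
      rw [slHom_zero_apply] at this
      simpa using this
    have a01 : A 0 1 = 0 := by
      have := congrFun k1 0
      rw [slHom_zero_apply] at this
      simpa using this
    have a11 : A 1 1 = 1 := by
      have := congrFun k1 1
      rw [slHom_one_apply] at this
      simpa using this
    have hdet := A.2
    rw [Matrix.det_fin_two, a00, a01, a11] at hdet
    funext i
    fin_cases i
    · simpa using hdet
    · simpa using h2
  apply LinearEquiv.ext
  intro w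
  have hsplit : w = ![w 0, 0] + ![0, w 1] := by
    funext i; fin_cases i <;> simp
  rw [hsplit, map_add, hyT.1 _ (mem_U0.2 rfl), hlow]
  rfl

/-- Elements normalizing `SL₂` are semilinear. -/
theorem exists_semilinear {x : AW F} (hn : x ∈ Subgroup.normalizer (sl F : Set (AW F))) :
    ∃ σ : F → F, ∀ (c : F) w, x (c • w) = σ c • x w := by
  have key : ∀ c : F, ∃ k : F, ∀ w, x (c • w) = k • x w := by
    intro c
    let f : (Fin 2 → F) →+ (Fin 2 → F) :=
      AddMonoidHom.mk' (fun w => x (c • x⁻¹ w)) fun a b => by rw [map_add, smul_add, map_add]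
    have hf : ∀ (A : SL(2, F)) w, f (slHom F A w) = slHom F A (f w) := by
      intro A w
      obtain ⟨B, hB⟩ := (Subgroup.mem_normalizer_iff''.1 hn (slHom F A)).1 ⟨_, rfl⟩
      have hB' : ∀ v, x (slHom F B v) = slHom F A (x v) := by
        intro v
        rw [hB, LinearEquiv.mul_apply, LinearEquiv.mul_apply, apply_inv_apply]
      change x (c • x⁻¹ (slHom F A w)) = slHom F A (x (c • x⁻¹ w))
      rw [← hB', slHom_smul]
      congr 2
      apply x.injective
      rw [apply_inv_apply, hB', apply_inv_apply]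
    obtain ⟨k, hk⟩ := exists_scalar f hf
    refine ⟨k, fun w => ?_⟩
    have := hk (x w)
    simp only [f, AddMonoidHom.mk'_apply, inv_apply_apply] at this
    exact this
  choose σ hσ using key
  exact ⟨σ, hσ⟩

/-- The properties of the field map attached to a semilinear map. -/
theorem semilinear_hom {x : AW F} {σ : F → F} (hσ : ∀ (c : F) w, x (c • w) = σ c • x w)
    (a b : F) : σ (a + b) = σ a + σ b ∧ σ (a * b) = σ a * σ b ∧ σ 1 = 1 := by
  have he : x ![1, 0] ≠ 0 := fun h => by
    have := congrFun (x.injective (h.trans (map_zero x).symm)) 0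
    simp at this
  have canc : ∀ {c d : F}, c • x ![1, 0] = d • x ![1, 0] → c = d := fun {c d} h =>
    smul_left_injective F he h
  refine ⟨canc ?_, canc ?_, canc ?_⟩
  · rw [← hσ, add_smul, map_add, hσ, hσ, add_smul]
  · rw [← hσ, mul_smul, hσ, hσ, mul_smul]
  · rw [← hσ, one_smul, one_smul]

end H71.NatSL2
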