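import Cfsg.Agent.H71.NatSL2.Pairs
import Cfsg.Agent.H37.GL42A7
import Cfsg.Agent.H41.A8Sub
import Cfsg.Agent.H9.SLQuasi

/-!
Conclusion: `SL₂(F)` is normal, or `F` has four elements and the group is `A₇`.
-/

set_option autoImplicit false

open Matrix
open scoped MatrixGroups

namespace H71.NatSL2

variable {F : Type*} [Field F] {p : ℕ} [Fact p.Prime] [Fintype F] [CharP F p]
  {H P : Subgroup (AW F)}

/-- The quarter turn. -/
def wSL : SL(2, F) := ⟨!![0, -1; 1, 0], by simp [Matrix.det_fin_two]⟩

theorem lT_eq (c : F) : H74.SL2.lT c = wSL * H74.SL2.uT (-c) * wSL⁻¹ := by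
  rw [eq_mul_inv_iff_mul_eq]
  apply Subtype.ext
  rw [Matrix.SpecialLinearGroup.coe_mul, Matrix.SpecialLinearGroup.coe_mul, H74.SL2.coe_lT,
    H74.SL2.coe_uT, show ((wSL : SL(2, F)) : Matrix (Fin 2) (Fin 2) F) = !![0, -1; 1, 0] from rfl]
  ext i j
  fin_cases i <;> fin_cases j <;> simp [Matrix.mul_apply, Fin.sum_univ_two]

/-- If all pairs of images meet trivially then `SL₂` is normal in `H`. -/
theorem conj_mem_of_disjoint (hS : Setting p H) (hP : GoodSylow p H P)
    (hdis : ∀ U V : AddSubgroup (Fin 2 → F), Mem H U → Mem H V → U ≠ V → U ⊓ V = ⊥)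
    {g : AW F} (hg : g ∈ H) {s : AW F} (hs : s ∈ sl F) : g * s * g⁻¹ ∈ sl F := by
  have line : ∀ {g : AW F}, g ∈ H → ∀ a, g * slHom F (H74.SL2.uT a) * g⁻¹ ∈ sl F := by
    intro g hg a
    have hU : Mem H (mv g (U0 F)) := ⟨g, hg, rfl⟩
    haveI : Nontrivial ↥(mv g (U0 F)) :=
      Finite.one_lt_card_iff_nontrivial.1 (by rw [hU.card]; exact Finite.one_lt_card)
    obtain ⟨v, hv⟩ := exists_ne (0 : ↥(mv g (U0 F)))
    have hv0 : (v : Fin 2 → F) ≠ 0 := fun h => hv (Subtype.ext h)
    obtain ⟨A, hA⟩ := exists_map_e0 hv0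
    have heq : mv g (U0 F) = mv (slHom F A) (U0 F) := by
      by_contra hne
      have h0 := hdis _ _ hU ⟨slHom F A, hS.sl_le ⟨A, rfl⟩, rfl⟩ hne
      apply hv0
      rw [← AddSubgroup.mem_bot, ← h0]
      refine AddSubgroup.mem_inf.2 ⟨v.2, ?_⟩
      rw [← hA]
      exact apply_mem_mv.2 (mem_U0.2 rfl)
    have ht : g * slHom F (H74.SL2.uT a) * g⁻¹ ∈ TT (mv (slHom F A) (U0 F)) := by
      rw [← heq]
      exact mem_TT_mv.2 (by simpa [mul_assoc] using uT_mem_TT a)
    obtain ⟨b, hb⟩ := hP.eq_uT (mem_TT_mv.1 ht)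
      (mul_mem (mul_mem (inv_mem (hS.sl_le ⟨A, rfl⟩))
        (mul_mem (mul_mem hg (hP.le (hP.uT_mem a))) (inv_mem hg))) (hS.sl_le ⟨A, rfl⟩))
    refine ⟨A * H74.SL2.uT b * A⁻¹, ?_⟩
    rw [map_mul, map_mul, map_inv, ← hb]
    simp [mul_assoc]
  let K : Subgroup SL(2, F) := (sl F).comap ((MulAut.conj g).toMonoidHom.comp (slHom F))
  have hK : K = ⊤ := by
    refine H37.eq_top_of_transvection_mem K fun i j hij c => ?_
    change g * slHom F _ * g⁻¹ ∈ sl F
    fin_cases i <;> fin_cases j
    · exact absurd rfl hij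
    · convert line hg c using 4
      apply Subtype.ext
      ext k l
      fin_cases k <;> fin_cases l <;>
        simp [H74.SL2.coe_uT, Matrix.SpecialLinearGroup.transvection, Matrix.transvection]
    · have hT : Matrix.SpecialLinearGroup.transvection hij c = H74.SL2.lT c := by
        apply Subtype.ext
        ext k l
        fin_cases k <;> fin_cases l <;>
          simp [H74.SL2.coe_lT, Matrix.SpecialLinearGroup.transvection, Matrix.transvection]
      rw [hT, lT_eq, map_mul, map_mul, map_inv]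
      have := line (mul_mem hg (hS.sl_le ⟨wSL, rfl⟩)) (-c)
      simpa [mul_assoc] using this
    · exact absurd rfl hij
  obtain ⟨A, rfl⟩ := hs
  have : A ∈ K := hK ▸ Subgroup.mem_top A
  exact this

/-- The Sylow subgroup has order at most eight when `F` has four elements. -/
theorem card_sylow_le_eight (hP : GoodSylow p H P) (hp : p = 2) (h4 : Nat.card F = 4) :
    Nat.card P ≤ 8 := by
  classical
  subst hp
  let X := {u : Fin 2 → F // u ∈ U0 F ∧ u ≠ 0}
  letI act : MulAction P X :=
    { smul := fun x u => ⟨(x : AW F) u.1, apply_mem_of_stab (hP.le_stab x.2) u.2.1,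
        fun h => u.2.2 ((x : AW F).injective (h.trans (map_zero _).symm))⟩
      one_smul := fun u => Subtype.ext rfl
      mul_smul := fun x y u => Subtype.ext rfl }
  let r : P →* Equiv.Perm X := MulAction.toPermHom P X
  haveI : Finite X := Subtype.finite
  have hX : Nat.card X = 3 := by
    have h1 : Nat.card {u : U0 F // u ≠ 0} = 3 := by
      haveI : Fintype (U0 F) := Fintype.ofFinite _
      rw [Nat.card_eq_fintype_card, Fintype.card_subtype_compl, Fintype.card_subtype_eq,
        ← Nat.card_eq_fintype_card, card_U0, h4]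
    rw [← h1]
    exact Nat.card_congr ⟨fun u => ⟨⟨u.1, u.2.1⟩, fun h => u.2.2 (congrArg Subtype.val h)⟩,
      fun u => ⟨u.1.1, u.1.2, fun h => u.2 (Subtype.ext h)⟩, fun u => rfl, fun u => rfl⟩
  have hker : Nat.card r.ker ≤ 4 := by
    rw [← h4]
    refine Nat.card_le_card_of_surjective (fun a : F => (⟨⟨slHom F (H74.SL2.uT a), hP.uT_mem a⟩,
      ?_⟩ : r.ker)) ?_
    · rw [MonoidHom.mem_ker]
      ext u : 1
      exact Subtype.ext ((uT_mem_TT a).1 u.1 u.2.1)
    rintro ⟨⟨x, hx⟩, hk⟩
    have hk' : ∀ u ∈ U0 F, x u = u := by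
      intro u hu
      rcases eq_or_ne u 0 with rfl | hu0
      · exact map_zero x
      · exact congrArg Subtype.val (Equiv.Perm.congr_fun (MonoidHom.mem_ker.1 hk) ⟨u, hu, hu0⟩)
    have hTT : x ∈ TT (U0 F) := by
      obtain ⟨σ, hσ⟩ := exists_semilinear (hP.le_normalizer hx)
      set e₀ : Fin 2 → F := ![1, 0] with he₀
      have he₀m : e₀ ∈ U0 F := mem_U0.2 rfl
      have he₀0 : e₀ ≠ 0 := fun h => one_ne_zero (congrFun h 0 : (1 : F) = 0)
      have hσ1 : ∀ c, σ c = c := by
        intro c
        have := hk' _ (smul_mem_U0 he₀m c)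
        rw [hσ, hk' _ he₀m] at this
        exact smul_left_injective F he₀0 this
      set b := x ![0, 1] 1 with hb
      have hlin : ∀ w, x w 1 = b * w 1 := by
        intro w
        have hw : w = w 0 • e₀ + w 1 • (![0, 1] : Fin 2 → F) := by
          funext i; fin_cases i <;> simp [he₀]
        conv_lhs => rw [hw]
        rw [map_add, hσ, hσ, hσ1, hσ1, hk' _ he₀m, hb]
        simp [he₀, mul_comm]
      have hpow : ∀ n : ℕ, (x ^ n) ![0, 1] 1 = b ^ n := by
        intro n
        induction n with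
        | zero => simp
        | succ n ih => rw [pow_succ', LinearEquiv.mul_apply, hlin, ih, pow_succ']
      obtain ⟨k, hk2⟩ := hP.isP ⟨x, hx⟩
      have hb1 : b = 1 := by
        have h1 := hpow (2 ^ k)
        have hx1 : x ^ 2 ^ k = 1 := congrArg Subtype.val hk2
        rw [hx1] at h1
        have h2 : (b - 1) ^ 2 ^ k = 0 := by
          rw [sub_pow_char_pow, one_pow, ← h1]
          simp
        exact sub_eq_zero.1 (pow_eq_zero_iff (by positivity) |>.1 h2)
      refine ⟨hk', fun w => ?_⟩
      rw [mem_U0, Pi.sub_apply, hlin, hb1, one_mul, sub_self]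
    obtain ⟨a, rfl⟩ := hP.eq_uT hTT (hP.le hx)
    exact ⟨a, rfl⟩
  have hrange : Nat.card r.range ≤ 2 := by
    have hd : Nat.card r.range ∣ 6 := by
      have := Subgroup.card_subgroup_dvd_card r.range
      rwa [Nat.card_perm, hX] at this
    have hp2 : IsPGroup 2 r.range := hP.isP.of_surjective r.rangeRestrict r.rangeRestrict_surjective
    obtain ⟨k, hk⟩ := IsPGroup.iff_card.1 hp2
    rw [hk] at hd ⊢
    have hk3 : k < 3 := by
      by_contra h
      have : 2 ^ 3 ≤ 2 ^ k := Nat.pow_le_pow_right (by omega) (by omega)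
      have := Nat.le_of_dvd (by norm_num) hd
      omega
    interval_cases k <;> simp_all
  rw [Subgroup.card_eq_card_quotient_mul_card_subgroup r.ker,
    Nat.card_congr (QuotientGroup.quotientKerEquivRange r).toEquiv]
  calc Nat.card r.range * Nat.card r.ker ≤ 2 * 4 := Nat.mul_le_mul hrange hker
    _ = 8 := rfl

theorem trivial_of_perfect {K Q : Type*} [Group K] [Group Q] (hK : commutator K = ⊤)
    [Group.IsSolvable Q] (f : K →* Q) (k : K) : f k = 1 := by
  obtain ⟨n, hn⟩ := (inferInstance : Group.IsSolvable Q)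
  have htop : ∀ m, derivedSeries K m = ⊤ := by
    intro m
    induction m with
    | zero => rfl
    | succ m ih => rw [derivedSeries_succ, ih, ← commutator_def, hK]
  have := map_derivedSeries_le_derivedSeries f n (Subgroup.mem_map_of_mem f
    (htop n ▸ Subgroup.mem_top k))
  rwa [hn, Subgroup.mem_bot] at this

theorem eq_one_of_ne_zero_two : ∀ a : ZMod 2, a ≠ 0 → a = 1 := by decide

/-- Embedding into `A₈` when `F` has four elements. -/
theorem exists_embedding (hp : p = 2) (h4 : Nat.card F = 4) :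
    ∃ ι : AW F →* Equiv.Perm (Fin 8), Function.Injective ι ∧ ∀ x, ι x ∈ alternatingGroup (Fin 8) := by
  subst hp
  letI : Algebra (ZMod 2) F := ZMod.algebra F 2
  have hfin : Module.finrank (ZMod 2) (Fin 2 → F) = 4 := by
    have h1 := Module.natCard_eq_pow_finrank (K := ZMod 2) (V := Fin 2 → F)
    rw [Nat.card_fun, h4, Nat.card_fin, Nat.card_zmod] at h1
    exact (Nat.pow_right_injective (le_refl 2) (show 2 ^ 4 = 2 ^ _ from h1)).symm
  let b := Module.finBasisOfFinrankEq (ZMod 2) (Fin 2 → F) hfin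
  let M : AW F →* Matrix (Fin 4) (Fin 4) (ZMod 2) :=
    { toFun := fun x => LinearMap.toMatrix b b (x.toLinearMap.toAddMonoidHom.toZModLinearMap 2)
      map_one' := by
        rw [show (1 : AW F).toLinearMap.toAddMonoidHom.toZModLinearMap 2 = LinearMap.id from rfl,
          LinearMap.toMatrix_id]
      map_mul' := fun x y => by
        rw [← LinearMap.toMatrix_comp]
        rfl }
  have hM : Function.Injective M := by
    intro x y h
    have h' := (LinearMap.toMatrix b b).injective h
    apply LinearEquiv.ext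
    intro w
    exact LinearMap.congr_fun h' w
  have hdet : ∀ x, (M x).det = 1 := by
    intro x
    have hu : IsUnit (M x).det := (Matrix.isUnit_iff_isUnit_det _).1
      ((Group.isUnit x).map M)
    exact eq_one_of_ne_zero_two _ hu.ne_zero
  let S : AW F →* Matrix.SpecialLinearGroup (Fin 4) (ZMod 2) :=
    MonoidHom.mk' (fun x => ⟨M x, hdet x⟩) fun x y => Subtype.ext (map_mul M x y)
  refine ⟨H37.rho8.comp S, H37.rho8_injective.comp fun x y h => hM (congrArg Subtype.val h),
    fun x => Equiv.Perm.mem_alternatingGroup.2 (H37.rho8_sign _)⟩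

/-- The group with four field elements. -/
theorem normal_or_seven (hS : Setting p H) (hP : GoodSylow p H P) (hp : p = 2)
    (h4 : Nat.card F = 4) (hx : ∃ x ∈ P, x ∉ sl F) :
    (∀ g ∈ H, ∀ s ∈ sl F, g * s * g⁻¹ ∈ sl F) ∨ Nonempty (H ≃* alternatingGroup (Fin 7)) := by
  classical
  subst hp
  obtain ⟨ι, hι, hA⟩ := exists_embedding (F := F) rfl h4
  set R := H.map ι with hR
  let e : H ≃* R := Subgroup.equivMapOfInjective H ι hι
  have hcR : Nat.card R = Nat.card H := (Nat.card_congr e.toEquiv).symm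
  have hRA : R ≤ alternatingGroup (Fin 8) := by
    rintro _ ⟨x, -, rfl⟩; exact hA x
  have hd20160 : Nat.card H ∣ 20160 := hcR ▸ H41.A8.card_dvd hRA
  have h2 : (Nat.card H).factorization 2 ≤ 3 := by
    obtain ⟨Q⟩ := (inferInstance : Nonempty (Sylow 2 H))
    have h1 := hP.card_le _ (Subgroup.map_subtype_le _) (Q.isPGroup'.map H.subtype)
    rw [Subgroup.card_map_of_injective H.subtype_injective, Q.card_eq_multiplicity] at h1
    exact (Nat.pow_le_pow_iff_right (by norm_num)).1
      ((h1.trans (card_sylow_le_eight hP rfl h4)).trans (show 8 ≤ 2 ^ 3 by norm_num))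
  have hd2520 : Nat.card H ∣ 2520 := by
    have h16 : ¬ 16 ∣ Nat.card H := fun h => by
      have := (Nat.prime_two.pow_dvd_iff_le_factorization Nat.card_pos.ne').1
        (show 2 ^ 4 ∣ Nat.card H from h)
      omega
    have hmem : Nat.card H ∈ Nat.divisors 20160 := Nat.mem_divisors.2 ⟨hd20160, by norm_num⟩
    have hall : ∀ d ∈ Nat.divisors 20160, ¬ 16 ∣ d → d ∣ 2520 := by decide +kernel
    exact hall _ hmem h16
  have hsl : Nat.card (sl F) = 60 := by
    rw [sl, Nat.card_congr (MonoidHom.ofInjective (slHom_injective (F := F))).toEquiv.symm,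
      H40.card_SL2, ← Nat.card_eq_fintype_card, h4]; norm_num
  have h60 : 60 ∣ Nat.card H := hsl ▸ Subgroup.card_dvd_of_le hS.sl_le
  by_cases h7 : 7 ∣ Nat.card H
  · right
    obtain ⟨⟨f⟩⟩ | ⟨⟨f⟩⟩ := H41.A8.five_seven hRA (hcR ▸ (dvd_trans (by norm_num) h60))
      (hcR ▸ h7)
    · exfalso
      have := Nat.card_congr (e.trans f).toEquiv
      rw [H41.A8.card_altEight] at this
      rw [this] at hd2520
      norm_num at hd2520
    · exact ⟨e.trans f⟩
  left
  have hd360 : Nat.card H ∣ 360 := by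
    refine (Nat.Coprime.dvd_of_dvd_mul_left ?_ (show Nat.card H ∣ 7 * 360 by exact hd2520))
    exact ((show Nat.Prime 7 by norm_num).coprime_iff_not_dvd.2 h7).symm
  set L : Subgroup H := (sl F).subgroupOf H with hL
  set N : Subgroup H := Subgroup.normalizer (L : Set H) with hN
  have hcL : Nat.card L = 60 := by
    rw [hL, Nat.card_congr (Subgroup.subgroupOfEquivOfLe hS.sl_le).toEquiv, hsl]
  obtain ⟨x, hxP, hxs⟩ := hx
  have hxN : (⟨x, hP.le hxP⟩ : H) ∈ N := by
    rw [hN, Subgroup.mem_normalizer_iff]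
    intro y
    rw [hL, Subgroup.mem_subgroupOf, Subgroup.mem_subgroupOf]
    exact Subgroup.mem_normalizer_iff.1 (hP.le_normalizer hxP) (y : AW F)
  have hLN : L ≤ N := Subgroup.le_normalizer
  have hcN : 120 ≤ Nat.card N := by
    obtain ⟨m, hm⟩ := Subgroup.card_dvd_of_le hLN
    rw [hcL] at hm
    rcases Nat.lt_or_ge m 2 with h | h
    · exfalso
      interval_cases m
      · exact Nat.card_pos.ne' (by simpa using hm)
      · have := Subgroup.eq_of_le_of_card_ge hLN (by rw [hcL]; omega)
        exact hxs (this.symm ▸ hxN : (⟨x, hP.le hxP⟩ : H) ∈ L)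
    · omega
  have hidx : Nat.card (H ⧸ N) ≤ 3 := by
    have h1 := Subgroup.card_eq_card_quotient_mul_card_subgroup N
    have h2 := Nat.le_of_dvd (by norm_num) hd360
    by_contra h
    have := Nat.mul_le_mul (show 4 ≤ Nat.card (H ⧸ N) by omega) hcN
    omega
  have hperf : commutator SL(2, F) = ⊤ := by
    obtain ⟨a, ha⟩ : ∃ a : F, a ∉ ({0, 1} : Finset F) := by
      by_contra h
      push Not at h
      have := Finset.card_le_card (show (Finset.univ : Finset F) ⊆ {0, 1} from fun a _ => h a)
      rw [Finset.card_univ, ← Nat.card_eq_fintype_card, h4] at this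
      have := this.trans Finset.card_le_two
      omega
    simp only [Finset.mem_insert, Finset.mem_singleton, not_or] at ha
    refine Cfsg.Agent.H9.commutator_SL_eq_top_of_square ⟨a, ha.1, fun h => ha.2 ?_⟩
    have h' : (a - 1) ^ 2 = 0 := by
      have h0 : (2 : F) = 0 := by exact_mod_cast CharP.cast_eq_zero F 2
      linear_combination h - (a - 1) * h0
    exact sub_eq_zero.1 (pow_eq_zero_iff (by norm_num) |>.1 h')
  intro g hg s hs
  let c : SL(2, F) →* H := (MulAut.conj (⟨g, hg⟩ : H)).toMonoidHom.comp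
    ((slHom F).codRestrict H fun A => hS.sl_le ⟨A, rfl⟩)
  have hcore : ∀ A, c A ∈ N := by
    intro A
    haveI : Group.IsSolvable (Equiv.Perm (H ⧸ N)) := by
      have hd : Nat.card (Equiv.Perm (H ⧸ N)) ∣ 6 := by
        rw [Nat.card_perm]
        exact Nat.factorial_dvd_factorial hidx
      exact H41.A8.solvable_of_dvd (hd.trans (by norm_num))
        (fun h => absurd (h.trans hd) (by norm_num)) (fun h => absurd (h.trans hd) (by norm_num))
    have h1 := trivial_of_perfect hperf ((MulAction.toPermHom H (H ⧸ N)).comp c) A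
    have h2 := Equiv.Perm.congr_fun h1 (QuotientGroup.mk (1 : H))
    simp only [MonoidHom.comp_apply, MulAction.toPermHom_apply, MulAction.toPerm_apply,
      Equiv.Perm.one_apply] at h2
    rw [MulAction.Quotient.smul_mk, smul_eq_mul, mul_one] at h2
    have h3 := QuotientGroup.eq.1 h2.symm
    simpa using h3
  haveI : (L.subgroupOf N).Normal := Subgroup.normal_in_normalizer
  haveI : Group.IsSolvable (N ⧸ L.subgroupOf N) := by
    have h1 := Subgroup.card_eq_card_quotient_mul_card_subgroup (L.subgroupOf N)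
    rw [Nat.card_congr (Subgroup.subgroupOfEquivOfLe hLN).toEquiv, hcL] at h1
    have hd : Nat.card (N ⧸ L.subgroupOf N) ∣ 6 := by
      have h3 := (Subgroup.card_subgroup_dvd_card N).trans hd360
      rw [h1] at h3
      exact Nat.dvd_of_mul_dvd_mul_right (by norm_num : 0 < 60) h3
    exact H41.A8.solvable_of_dvd (hd.trans (by norm_num))
      (fun h => absurd (h.trans hd) (by norm_num)) (fun h => absurd (h.trans hd) (by norm_num))
  obtain ⟨A, rfl⟩ := hs
  have h1 := trivial_of_perfect hperf
    ((QuotientGroup.mk' (L.subgroupOf N)).comp (c.codRestrict N hcore)) A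
  rw [MonoidHom.comp_apply, QuotientGroup.mk'_apply, QuotientGroup.eq_one_iff,
    Subgroup.mem_subgroupOf, hL, Subgroup.mem_subgroupOf] at h1
  exact h1

/-- The main result in coordinates. -/
theorem main (hS : Setting p H) :
    (∀ g ∈ H, ∀ s ∈ sl F, g * s * g⁻¹ ∈ sl F) ∨
      (Fintype.card F = 4 ∧ Nonempty (H ≃* alternatingGroup (Fin 7))) := by
  obtain ⟨P, hP⟩ := exists_goodSylow hS
  rcases disjoint_or_four hP with h | ⟨hp, h4, hx⟩
  · exact Or.inl fun g hg s hs => conj_mem_of_disjoint hS hP h hg hs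
  · rcases normal_or_seven hS hP hp h4 hx with h | h
    · exact Or.inl h
    · exact Or.inr ⟨by rw [← Nat.card_eq_fintype_card, h4], h⟩

end H71.NatSL2
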