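import Cfsg.Agent.H71.NatSL2.Basic
import Cfsg.Agent.H37.Generation

/-!
A group of automorphisms of `F²` containing `SL₂(F)` in which a Sylow subgroup normalizes `SL₂(F)`:
either the root groups are those of lines, or `F` has four elements.
-/

set_option autoImplicit false

open Matrix
open scoped MatrixGroups

namespace H71.NatSL2

variable {F : Type*} [Field F]

/-- The hypothesis that a Sylow subgroup of `H` normalizes `SL₂`. -/
structure Setting (p : ℕ) (H : Subgroup (AW F)) : Prop where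
  sl_le : sl F ≤ H
  syl : ∀ Q : Subgroup (AW F), Q ≤ H → IsPGroup p Q →
    Nat.card Q ≤ p ^ (Nat.card ↥(H ⊓ Subgroup.normalizer (sl F : Set (AW F)))).factorization p

/-- The images of the coordinate line. -/
def Mem (H : Subgroup (AW F)) (U : AddSubgroup (Fin 2 → F)) : Prop := ∃ g ∈ H, U = mv g (U0 F)

variable {p : ℕ} [Fact p.Prime] [Fintype F] [CharP F p]

theorem isPGroup_TT (U : AddSubgroup (Fin 2 → F)) : IsPGroup p (TT U) := by
  intro x
  refine ⟨1, ?_⟩
  apply Subtype.ext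
  rw [SubgroupClass.coe_pow, OneMemClass.coe_one, pow_one]
  obtain ⟨x, hx1, hx2⟩ := x
  have h : ∀ n : ℕ, ∀ w, (x ^ n) w = w + n • (x w - w) := by
    intro n
    induction n with
    | zero => intro w; simp
    | succ n ih =>
      intro w
      rw [pow_succ', LinearEquiv.mul_apply, ih, map_add, map_nsmul, hx1 _ (hx2 w), succ_nsmul]
      abel
  apply LinearEquiv.ext
  intro w
  simp only [Subgroup.coe_mk]
  rw [h p w]
  have : p • (x w - w) = 0 := by
    funext i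
    rw [Pi.smul_apply, nsmul_eq_mul, CharP.cast_eq_zero, zero_mul, Pi.zero_apply]
  simp [this]

/-- A Sylow subgroup in the normalizer of `SL₂` and of the coordinate line. -/
structure GoodSylow (p : ℕ) (H P : Subgroup (AW F)) : Prop where
  le : P ≤ H
  le_normalizer : P ≤ Subgroup.normalizer (sl F : Set (AW F))
  le_stab : P ≤ stab (U0 F)
  isP : IsPGroup p P
  max : ∀ Q : Subgroup (AW F), Q ≤ H → IsPGroup p Q → P ≤ Q → Q = P
  card_le : ∀ Q : Subgroup (AW F), Q ≤ H → IsPGroup p Q → Nat.card Q ≤ Nat.card P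
  uT_mem : ∀ a : F, slHom F (H74.SL2.uT a) ∈ P
  inf_sl : ∀ x ∈ P, x ∈ sl F → ∃ a, x = slHom F (H74.SL2.uT a)

variable {H : Subgroup (AW F)}

theorem exists_goodSylow (hS : Setting p H) : ∃ P, GoodSylow p H P := by
  classical
  set N : Subgroup (AW F) := H ⊓ Subgroup.normalizer (sl F : Set (AW F)) with hN
  set T0 : Subgroup (AW F) := (H74.SL2.upper F).map (slHom F) with hT0
  have hT0N : T0 ≤ N := by
    rintro x ⟨A, -, rfl⟩
    exact ⟨hS.sl_le ⟨A, rfl⟩, Subgroup.le_normalizer ⟨A, rfl⟩⟩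
  have hT0p : IsPGroup p T0 :=
    ((H74.SL2.upperSylow (F := F) p).isPGroup').map (slHom F)
  obtain ⟨R, hR⟩ := (hT0p.comap_subtype (K := N)).exists_le_sylow
  set P : Subgroup (AW F) := (R : Subgroup N).map N.subtype with hP
  have hTP : T0 ≤ P := fun x hx => ⟨⟨x, hT0N hx⟩, hR hx, rfl⟩
  have hPN : P ≤ N := Subgroup.map_subtype_le _
  have hPp : IsPGroup p P := R.isPGroup'.map _
  have hcard : Nat.card P = p ^ (Nat.card N).factorization p := by
    rw [hP, Subgroup.card_map_of_injective N.subtype_injective]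
    exact R.card_eq_multiplicity
  have hcle : ∀ Q : Subgroup (AW F), Q ≤ H → IsPGroup p Q → Nat.card Q ≤ Nat.card P :=
    fun Q hQ hQp => hcard ▸ hS.syl Q hQ hQp
  have hinf : ∀ x ∈ P, x ∈ sl F → ∃ a, x = slHom F (H74.SL2.uT a) := by
    intro x hx hxs
    have hq : IsPGroup p (P.comap (slHom F)) :=
      hPp.comap_of_injective (slHom F) slHom_injective
    have hle : ((H74.SL2.upperSylow (F := F) p) : Subgroup _) ≤ P.comap (slHom F) :=
      fun A hA => hTP ⟨A, hA, rfl⟩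
    have heq := (H74.SL2.upperSylow (F := F) p).is_maximal' hq hle
    obtain ⟨A, rfl⟩ := hxs
    have hA : A ∈ H74.SL2.upper F := by
      rw [← H74.SL2.coe_upperSylow (p := p), ← heq]
      exact hx
    obtain ⟨a, rfl⟩ := H74.SL2.mem_upper.1 hA
    exact ⟨a, rfl⟩
  have huT : ∀ a : F, slHom F (H74.SL2.uT a) ∈ P :=
    fun a => hTP ⟨_, H74.SL2.mem_upper.2 ⟨a, rfl⟩, rfl⟩
  refine ⟨P, hPN.trans inf_le_left, hPN.trans inf_le_right, fun x hx => ?_, hPp,
    fun Q hQ hQp hle => (Subgroup.eq_of_le_of_card_ge hle (hcle Q hQ hQp)).symm, hcle, huT, hinf⟩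
  apply stab_of_forall
  intro u hu
  set t := slHom F (H74.SL2.uT 1) with ht
  have h1 : x * t * x⁻¹ ∈ P := mul_mem (mul_mem hx (huT 1)) (inv_mem hx)
  have h2 : x * t * x⁻¹ ∈ sl F :=
    (Subgroup.mem_normalizer_iff.1 (hPN hx).2 t).1 ⟨_, rfl⟩
  obtain ⟨a, ha⟩ := hinf _ h1 h2
  have hne : a ≠ 0 := by
    rintro rfl
    have e0 : H74.SL2.uT (0 : F) = 1 := by
      apply Subtype.ext
      ext i j
      fin_cases i <;> fin_cases j <;> simp [H74.SL2.coe_uT]
    rw [e0, map_one, conj_eq_one_iff, ht, ← map_one (slHom F), ← e0] at ha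
    exact one_ne_zero (H74.SL2.uT_inj (slHom_injective ha))
  refine uT_fixed hne ?_
  rw [← ha, LinearEquiv.mul_apply, LinearEquiv.mul_apply, inv_apply_apply,
    (uT_mem_TT 1).1 u hu]

theorem GoodSylow.eq_uT {P : Subgroup (AW F)} (hP : GoodSylow p H P) {x : AW F}
    (hx : x ∈ TT (U0 F)) (hxH : x ∈ H) : ∃ a, x = slHom F (H74.SL2.uT a) := by
  have hn : P ≤ Subgroup.normalizer ((H ⊓ TT (U0 F) : Subgroup (AW F)) : Set (AW F)) := by
    intro y hy
    rw [Subgroup.mem_normalizer_iff]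
    intro z
    have key : y * z * y⁻¹ ∈ TT (U0 F) ↔ z ∈ TT (U0 F) := by
      have := mem_TT_mv (g := y⁻¹) (x := z) (U := U0 F)
      rw [mem_stab.1 (inv_mem (hP.le_stab hy)), inv_inv] at this
      exact this.symm
    simp only [Subgroup.mem_inf, key]
    refine and_congr_left fun _ => ⟨fun h => mul_mem (mul_mem (hP.le hy) h) (inv_mem (hP.le hy)),
      fun h => ?_⟩
    have := mul_mem (mul_mem (inv_mem (hP.le hy)) h) (hP.le hy)
    simpa [mul_assoc] using this
  have hp : IsPGroup p (P ⊔ (H ⊓ TT (U0 F)) : Subgroup (AW F)) :=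
    IsPGroup.to_sup_of_normal_right' hP.isP ((isPGroup_TT (U0 F)).to_le inf_le_right) hn
  have heq := hP.max _ (sup_le hP.le inf_le_left) hp le_sup_left
  have hxP : x ∈ P := heq ▸ Subgroup.mem_sup_right ⟨hxH, hx⟩
  exact exists_uT_of_mem hx (hP.le_normalizer hxP)

theorem Mem.card {U : AddSubgroup (Fin 2 → F)} (hU : Mem H U) : Nat.card U = Nat.card F := by
  obtain ⟨g, -, rfl⟩ := hU
  rw [card_mv, card_U0]

theorem Mem.mv {U : AddSubgroup (Fin 2 → F)} (hU : Mem H U) {g : AW F} (hg : g ∈ H) :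
    Mem H (mv g U) := by
  obtain ⟨k, hk, rfl⟩ := hU
  exact ⟨g * k, mul_mem hg hk, (mv_mul g k _).symm⟩

theorem Mem.fixed {P : Subgroup (AW F)} (hP : GoodSylow p H P) {U : AddSubgroup (Fin 2 → F)}
    (hU : Mem H U) {t : AW F} (htH : t ∈ H) (ht : t ∈ TT U) (ht1 : t ≠ 1) {w : Fin 2 → F}
    (hw : t w = w) : w ∈ U := by
  obtain ⟨g, hg, rfl⟩ := hU
  obtain ⟨a, ha⟩ := hP.eq_uT (mem_TT_mv.1 ht) (mul_mem (mul_mem (inv_mem hg) htH) hg)
  have hne : a ≠ 0 := by
    rintro rfl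
    have e0 : H74.SL2.uT (0 : F) = 1 := by
      apply Subtype.ext
      ext i j
      fin_cases i <;> fin_cases j <;> simp [H74.SL2.coe_uT]
    rw [e0, map_one] at ha
    apply ht1
    have := congrArg (fun y => g * y * g⁻¹) ha
    simpa [mul_assoc] using this
  rw [mem_mv]
  refine uT_fixed hne ?_
  rw [← ha, LinearEquiv.mul_apply, LinearEquiv.mul_apply, apply_inv_apply, hw]

theorem Mem.card_TT {P : Subgroup (AW F)} (hP : GoodSylow p H P)
    {U : AddSubgroup (Fin 2 → F)} (hU : Mem H U) :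
    Nat.card ↥(H ⊓ TT U) = Nat.card F := by
  obtain ⟨g, hg, rfl⟩ := hU
  symm
  have hin : ∀ a : F, g * slHom F (H74.SL2.uT a) * g⁻¹ ∈ H ⊓ TT (_root_.H71.NatSL2.mv g (U0 F)) :=
    fun a => Subgroup.mem_inf.2 ⟨mul_mem (mul_mem hg (hP.le (hP.uT_mem a))) (inv_mem hg),
      mem_TT_mv.2 (by simpa [mul_assoc] using uT_mem_TT a)⟩
  refine Nat.card_congr (Equiv.ofBijective (fun a : F => (⟨g * slHom F (H74.SL2.uT a) * g⁻¹, hin a⟩ : ↥(H ⊓ TT (_root_.H71.NatSL2.mv g (U0 F)))))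
    ⟨fun a b hab => ?_, fun x => ?_⟩)
  · exact H74.SL2.uT_inj (slHom_injective (by simpa using hab))
  · obtain ⟨a, ha⟩ := hP.eq_uT (mem_TT_mv.1 x.2.2) (mul_mem (mul_mem (inv_mem hg) x.2.1) hg)
    exact ⟨a, Subtype.ext (by simp [← ha, mul_assoc])⟩

/-- Conjugation into the Sylow subgroup inside the stabilizer of the coordinate line. -/
theorem GoodSylow.exists_conj_le {P : Subgroup (AW F)} (hP : GoodSylow p H P)
    {Q : Subgroup (AW F)} (hQ : IsPGroup p Q) (hQs : Q ≤ H ⊓ stab (U0 F)) :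
    ∃ h ∈ H ⊓ stab (U0 F), ∀ x ∈ Q, h * x * h⁻¹ ∈ P := by
  set St := H ⊓ stab (U0 F) with hSt
  have hPSt : P ≤ St := le_inf hP.le hP.le_stab
  obtain ⟨R, hR⟩ := (hP.isP.comap_subtype (K := St)).exists_le_sylow
  have hReq : (R : Subgroup St).map St.subtype = P := by
    refine hP.max _ ((Subgroup.map_subtype_le _).trans inf_le_left) (R.isPGroup'.map _) ?_
    intro x hx
    exact ⟨⟨x, hPSt hx⟩, hR hx, rfl⟩
  obtain ⟨R', hR'⟩ := (hQ.comap_subtype (K := St)).exists_le_sylow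
  obtain ⟨h, hh⟩ := MulAction.exists_smul_eq St R' R
  refine ⟨h, h.2, fun x hx => ?_⟩
  rw [← hReq]
  refine ⟨h * ⟨x, hQs hx⟩ * h⁻¹, ?_, by simp⟩
  rw [SetLike.mem_coe, ← hh, Sylow.coe_subgroup_smul, Subgroup.mem_pointwise_smul_iff_inv_smul_mem]
  simpa [MulAut.smul_def, mul_assoc] using hR' (x := ⟨x, hQs hx⟩) hx

end H71.NatSL2
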