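import Cfsg.Agent.H71.NatSL2.Main

/-!
Two images of the coordinate line meet trivially unless the field has four elements; if all pairs
meet trivially then `SL₂` is normal.
-/

set_option autoImplicit false

open Matrix
open scoped MatrixGroups

namespace H71.NatSL2

variable {F : Type*} [Field F] {p : ℕ} [Fact p.Prime] [Fintype F] [CharP F p]
  {H P : Subgroup (AW F)}

/-- An element moved into the Sylow subgroup: it is a field involution on the coordinate line. -/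
theorem field_involution {U : AddSubgroup (Fin 2 → F)} (hU : Mem H U) (hne : U ≠ U0 F)
    (hP : GoodSylow p H P) {x : AW F} (hxP : x ∈ P) (hxU : x ∈ TT U) (hx1 : x ≠ 1)
    {v : Fin 2 → F} (hv : v ∈ U ⊓ U0 F) (hv0 : v ≠ 0) :
    p = 2 ∧ ∃ σ : F → F, (∀ (c : F) w, x (c • w) = σ c • x w) ∧ (∃ c, σ c ≠ c) ∧
      (∀ c, σ (σ c) = c) ∧ (∀ c : F, c • v ∈ U ↔ σ c = c) ∧
      Nat.card ↥(U ⊓ U0 F) ^ 2 = Nat.card F := by
  have hxH : x ∈ H := hP.le hxP
  have fixedIff : ∀ w, x w = w ↔ w ∈ U :=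
    fun w => ⟨fun h => hU.fixed hP hxH hxU hx1 h, fun h => hxU.1 w h⟩
  obtain ⟨σ, hσ⟩ := exists_semilinear (hP.le_normalizer hxP)
  have hom := semilinear_hom hσ
  obtain ⟨hvU, hvU0⟩ := AddSubgroup.mem_inf.1 hv
  have hxv : x v = v := hxU.1 v hvU
  have hfix : ∀ c : F, c • v ∈ U ↔ σ c = c := by
    intro c
    rw [← fixedIff, hσ, hxv]
    exact ⟨fun h => smul_left_injective F hv0 h, fun h => by rw [h]⟩
  have hΔ : ∀ c, σ (σ c - c) = σ c - c := by
    intro c
    have h1 := hxU.1 _ (hxU.2 (c • v))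
    rw [hσ, hxv, ← sub_smul, hσ, hxv] at h1
    exact smul_left_injective F hv0 h1
  have hsub : ∀ a b, σ (a - b) = σ a - σ b := by
    intro a b
    have := (hom (a - b) b).1
    rw [sub_add_cancel] at this
    rw [this, add_sub_cancel_right]
  have hex : ∃ c, σ c ≠ c := by
    by_contra hall
    push Not at hall
    apply hne
    refine (AddSubgroup.eq_of_le_of_card_ge (fun w hw => ?_) ?_).symm
    · obtain ⟨c, rfl⟩ := exists_smul_of_mem_U0 hvU0 hv0 hw
      exact (hfix c).2 (hall c)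
    · rw [hU.card, card_U0]
  obtain ⟨c₀, hc₀⟩ := hex
  have h2 : (2 : F) = 0 := by
    have e1 := hΔ (c₀ * c₀)
    have e2 := hΔ c₀
    rw [hsub] at e1 e2
    rw [(hom c₀ c₀).2.1, (hom (σ c₀) (σ c₀)).2.1] at e1
    have e3 : σ (σ c₀) = σ c₀ + σ c₀ - c₀ := by linear_combination e2
    rw [e3] at e1
    have e4 : (2 : F) * ((σ c₀ - c₀) * (σ c₀ - c₀)) = 0 := by linear_combination e1
    rcases mul_eq_zero.1 e4 with h | h
    · exact h
    · rcases mul_eq_zero.1 h with h | h <;> exact absurd (sub_eq_zero.1 h) hc₀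
  have hp : p = 2 := by
    have : ((2 : ℕ) : F) = 0 := by exact_mod_cast h2
    rw [CharP.cast_eq_zero_iff F p] at this
    exact (Nat.prime_dvd_prime_iff_eq Fact.out Nat.prime_two).1 this
  have hinv : ∀ c, σ (σ c) = c := by
    intro c
    have e := hΔ c
    rw [hsub] at e
    have : σ (σ c) = σ c + σ c - c := by linear_combination e
    rw [this, ← two_mul, h2, zero_mul, zero_sub]
    linear_combination (-c) * h2
  refine ⟨hp, σ, hσ, ⟨c₀, hc₀⟩, hinv, hfix, ?_⟩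
  let Δ : F →+ F := AddMonoidHom.mk' (fun c => σ c - c) fun a b => by rw [(hom a b).1]; ring
  have hker : ∀ c, c ∈ Δ.ker ↔ σ c = c := fun c => by
    rw [AddMonoidHom.mem_ker]; exact sub_eq_zero
  have hrange : Δ.range = Δ.ker := by
    ext c
    rw [hker]
    constructor
    · rintro ⟨d, rfl⟩
      exact hΔ d
    · intro hc
      have hd : σ c₀ - c₀ ≠ 0 := sub_ne_zero.2 hc₀
      have hd' : σ (σ c₀ - c₀)⁻¹ = (σ c₀ - c₀)⁻¹ := by
        have h1 := (hom (σ c₀ - c₀) (σ c₀ - c₀)⁻¹).2.1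
        rw [mul_inv_cancel₀ hd, (hom 0 0).2.2, hΔ] at h1
        exact (eq_inv_of_mul_eq_one_right h1.symm)
      refine ⟨c * (σ c₀ - c₀)⁻¹ * c₀, ?_⟩
      change σ (c * (σ c₀ - c₀)⁻¹ * c₀) - c * (σ c₀ - c₀)⁻¹ * c₀ = c
      rw [(hom _ _).2.1, (hom _ _).2.1, hc, hd']
      field_simp
  have hA : Nat.card ↥(U ⊓ U0 F) = Nat.card Δ.ker := by
    symm
    refine Nat.card_congr (Equiv.ofBijective (fun c : Δ.ker => (⟨(c : F) • v,
      AddSubgroup.mem_inf.2 ⟨(hfix _).2 ((hker _).1 c.2), smul_mem_U0 hvU0 _⟩⟩ :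
        ↥(U ⊓ U0 F))) ⟨fun a b hab => ?_, fun w => ?_⟩)
    · exact Subtype.ext (smul_left_injective F hv0 (congrArg Subtype.val hab))
    · obtain ⟨c, hc⟩ := exists_smul_of_mem_U0 hvU0 hv0 (AddSubgroup.mem_inf.1 w.2).2
      exact ⟨⟨c, (hker c).2 ((hfix c).1 (hc ▸ (AddSubgroup.mem_inf.1 w.2).1))⟩,
        Subtype.ext hc.symm⟩
  rw [hA, sq]
  calc Nat.card Δ.ker * Nat.card Δ.ker = Nat.card Δ.range * Nat.card Δ.ker := by rw [hrange]
    _ = Nat.card (F ⧸ Δ.ker) * Nat.card Δ.ker := by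
      rw [Nat.card_congr (QuotientAddGroup.quotientKerEquivRange Δ).toEquiv]
    _ = Nat.card F := (AddSubgroup.card_eq_card_quotient_mul_card_addSubgroup Δ.ker).symm

/-- Two such elements coincide. -/
theorem field_involution_unique {U : AddSubgroup (Fin 2 → F)} (hU : Mem H U) (hne : U ≠ U0 F)
    (hP : GoodSylow p H P) {x y : AW F} (hxP : x ∈ P) (hxU : x ∈ TT U) (hx1 : x ≠ 1)
    (hyP : y ∈ P) (hyU : y ∈ TT U) (hy1 : y ≠ 1)
    {v : Fin 2 → F} (hv : v ∈ U ⊓ U0 F) (hv0 : v ≠ 0) : x = y := by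
  obtain ⟨-, σ, hσ, -, hσi, hσf, -⟩ := field_involution hU hne hP hxP hxU hx1 hv hv0
  obtain ⟨-, τ, hτ, -, -, hτf, -⟩ := field_involution hU hne hP hyP hyU hy1 hv hv0
  obtain ⟨hvU, hvU0⟩ := AddSubgroup.mem_inf.1 hv
  have hiff : ∀ c, σ c = c ↔ τ c = c := fun c => (hσf c).symm.trans (hτf c)
  have hστ : ∀ c, σ c = τ c := by
    intro c
    have hs : τ (c + σ c) = c + σ c := by
      rw [← hiff, (semilinear_hom hσ c (σ c)).1, hσi, add_comm]
    have hm : τ (c * σ c) = c * σ c := by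
      rw [← hiff, (semilinear_hom hσ c (σ c)).2.1, hσi, mul_comm]
    rw [(semilinear_hom hτ _ _).1] at hs
    rw [(semilinear_hom hτ _ _).2.1] at hm
    have : (τ c - c) * (τ c - σ c) = 0 := by
      linear_combination (τ c) * hs - hm
    rcases mul_eq_zero.1 this with h | h
    · rw [(hiff c).2 (sub_eq_zero.1 h), sub_eq_zero.1 h]
    · exact (sub_eq_zero.1 h).symm
  by_contra hxy
  apply hne
  refine (AddSubgroup.eq_of_le_of_card_ge (fun w hw => ?_) ?_).symm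
  · obtain ⟨c, rfl⟩ := exists_smul_of_mem_U0 hvU0 hv0 hw
    refine hU.fixed hP (mul_mem (inv_mem (hP.le hxP)) (hP.le hyP))
      (mul_mem (inv_mem hxU) hyU) (fun h => hxy (inv_mul_eq_one.1 h)) ?_
    have e : y (c • v) = x (c • v) := by rw [hσ, hτ, hxU.1 v hvU, hyU.1 v hvU, hστ]
    rw [LinearEquiv.mul_apply, e, inv_apply_apply]
  · rw [hU.card, card_U0]

/-- Two images of the coordinate line meet trivially, unless the field has four elements. -/
theorem disjoint_or_four (hP : GoodSylow p H P) :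
    (∀ U V : AddSubgroup (Fin 2 → F), Mem H U → Mem H V → U ≠ V → U ⊓ V = ⊥) ∨
      (p = 2 ∧ Nat.card F = 4 ∧ ∃ x ∈ P, x ∉ sl F) := by
  classical
  refine or_iff_not_imp_left.2 fun hcon => ?_
  push Not at hcon
  haveI : Finite (AddSubgroup (Fin 2 → F)) :=
    Finite.of_injective (fun U => (U : Set (Fin 2 → F))) SetLike.coe_injective
  obtain ⟨U₁, V₁, hU₁, hV₁, hne₁, hi₁⟩ := hcon
  let S : Set (AddSubgroup (Fin 2 → F) × AddSubgroup (Fin 2 → F)) :=
    {q | Mem H q.1 ∧ Mem H q.2 ∧ q.1 ≠ q.2}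
  obtain ⟨⟨U, V⟩, hq, hmax⟩ := S.toFinite.exists_maximalFor
    (fun q : AddSubgroup (Fin 2 → F) × AddSubgroup (Fin 2 → F) => Nat.card ↥(q.1 ⊓ q.2)) S ⟨(U₁, V₁), hU₁, hV₁, hne₁⟩
  obtain ⟨hU, hV, hUV⟩ : Mem H U ∧ Mem H V ∧ U ≠ V := hq
  set A := U ⊓ V with hA
  have hA1 : 1 < Nat.card A := by
    by_contra h
    have h1 : 1 < Nat.card ↥(U₁ ⊓ V₁) := by
      have : Nontrivial ↥(U₁ ⊓ V₁) := (AddSubgroup.nontrivial_iff_ne_bot _).2 hi₁
      exact Finite.one_lt_card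
    have h2 : Nat.card ↥(U₁ ⊓ V₁) ≤ Nat.card A := by
      rcases le_total (Nat.card ↥(U₁ ⊓ V₁)) (Nat.card A) with h3 | h3
      · exact h3
      · exact hmax (j := (U₁, V₁)) ⟨hU₁, hV₁, hne₁⟩ h3
    omega
  -- a vector of `V` outside `U`
  obtain ⟨u₀, hu₀V, hu₀U⟩ : ∃ u ∈ V, u ∉ U := by
    by_contra h
    push Not at h
    exact hUV (AddSubgroup.eq_of_le_of_card_ge h (by rw [hU.card, hV.card])).symm
  set T := H ⊓ TT U with hT
  set S' : Subgroup T := (stab V).subgroupOf T with hS'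
  have hmoved : ∀ t : T, ∀ w ∈ V, (t : AW F) w - w ∈ A → w ∉ A → t ∈ S' := by
    intro t w hw htw hwA
    by_contra htS
    obtain ⟨htH, htU⟩ := Subgroup.mem_inf.1 t.2
    set V' := mv (t : AW F) V with hV'
    have hVV' : V ≠ V' := fun h => htS (Subgroup.mem_subgroupOf.2 h.symm)
    have hle : A ≤ V ⊓ V' := fun a ha => by
      obtain ⟨haU, haV⟩ := AddSubgroup.mem_inf.1 ha
      refine AddSubgroup.mem_inf.2 ⟨haV, ?_⟩
      rw [hV', ← htU.1 a haU]
      exact apply_mem_mv.2 haV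
    have hcle : Nat.card ↥(V ⊓ V') ≤ Nat.card A := by
      rcases le_total (Nat.card ↥(V ⊓ V')) (Nat.card A) with h3 | h3
      · exact h3
      · exact hmax (j := (V, V')) ⟨hV, hV.mv htH, hVV'⟩ h3
    have heq : A = V ⊓ V' := AddSubgroup.eq_of_le_of_card_ge hle hcle
    have htwV : (t : AW F) w ∈ V := by
      have := V.add_mem (AddSubgroup.mem_inf.1 htw).2 hw
      rwa [sub_add_cancel] at this
    have : (t : AW F) w ∈ A := by
      rw [heq]; exact AddSubgroup.mem_inf.2 ⟨htwV, apply_mem_mv.2 hw⟩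
    apply hwA
    have h2 := A.sub_mem this htw
    rwa [sub_sub_cancel] at h2
  have hu₀A : u₀ ∉ A := fun h => hu₀U (AddSubgroup.mem_inf.1 h).1
  -- counting
  have hcount : Nat.card A ≤ Nat.card S' := by
    let f : (T ⧸ S') × A → U := fun q => ⟨((q.1.out : T) : AW F) u₀ - u₀ + (q.2 : Fin 2 → F),
      U.add_mem ((Subgroup.mem_inf.1 q.1.out.2).2.2 u₀) (AddSubgroup.mem_inf.1 q.2.2).1⟩
    have hf : Function.Injective f := by
      rintro ⟨a, x⟩ ⟨b, y⟩ h
      have h' : ((a.out : T) : AW F) u₀ - u₀ + (x : Fin 2 → F) =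
          ((b.out : T) : AW F) u₀ - u₀ + (y : Fin 2 → F) := congrArg Subtype.val h
      set d : Fin 2 → F := (x : Fin 2 → F) - y with hd
      have hdA : d ∈ A := A.sub_mem x.2 y.2
      have hbd : ((b.out : T) : AW F) u₀ = ((a.out : T) : AW F) u₀ + d := by
        rw [hd]; linear_combination (norm := abel) -h'
      have hfix : ((a.out : T) : AW F)⁻¹ d = d :=
        (inv_mem (Subgroup.mem_inf.1 a.out.2).2).1 d (AddSubgroup.mem_inf.1 hdA).1
      have hmem : a.out⁻¹ * b.out ∈ S' := by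
        refine hmoved _ u₀ hu₀V ?_ hu₀A
        rw [Subgroup.coe_mul, InvMemClass.coe_inv, LinearEquiv.mul_apply, hbd, map_add,
          inv_apply_apply, hfix, add_sub_cancel_left]
        exact hdA
      have hab : a = b := by
        rw [← QuotientGroup.out_eq' a, ← QuotientGroup.out_eq' b]
        exact QuotientGroup.eq.2 hmem
      subst hab
      exact Prod.ext rfl (Subtype.ext (add_left_cancel h'))
    have h1 := Nat.card_le_card_of_injective f hf
    rw [Nat.card_prod, hU.card, ← hU.card_TT hP, ← hT,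
      Subgroup.card_eq_card_quotient_mul_card_subgroup S'] at h1
    exact Nat.le_of_mul_le_mul_left h1 Nat.card_pos
  -- move everything to the coordinate line
  obtain ⟨g, hg, hgV⟩ := id hV
  have hQ : IsPGroup p (((TT U ⊓ H) ⊓ stab V).map (MulAut.conj g⁻¹).toMonoidHom) :=
    (((isPGroup_TT U).to_le inf_le_left).to_le inf_le_left).map _
  have hQs : ((TT U ⊓ H) ⊓ stab V).map (MulAut.conj g⁻¹).toMonoidHom ≤ H ⊓ stab (U0 F) := by
    rintro _ ⟨s, ⟨⟨-, hsH⟩, hsV⟩, rfl⟩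
    refine Subgroup.mem_inf.2
      ⟨mul_mem (mul_mem (inv_mem hg) hsH) (inv_mem (inv_mem hg)), ?_⟩
    change mv (g⁻¹ * s * g⁻¹⁻¹) (U0 F) = U0 F
    rw [inv_inv, mv_mul, ← hgV, mv_mul, mem_stab.1 hsV, hgV, ← mv_mul, inv_mul_cancel, mv_one]
  obtain ⟨h, hh, hconj⟩ := hP.exists_conj_le hQ hQs
  set k := h * g⁻¹ with hk
  have hkH : k ∈ H := mul_mem hh.1 (inv_mem hg)
  have hkV : mv k V = U0 F := by
    rw [hgV, ← mv_mul, hk, inv_mul_cancel_right]
    exact hh.2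
  set U₂ := mv k U with hU₂
  have hU₂ne : U₂ ≠ U0 F := fun h => hUV (mv_injective k (h.trans hkV.symm))
  have hA₂ : Nat.card ↥(U₂ ⊓ U0 F) = Nat.card A := by
    rw [hU₂, ← hkV, ← mv_inf, card_mv]
  obtain ⟨v, hv, hv0⟩ : ∃ v ∈ U₂ ⊓ U0 F, v ≠ 0 := by
    haveI : Nontrivial ↥(U₂ ⊓ U0 F) := Finite.one_lt_card_iff_nontrivial.1 (by omega)
    obtain ⟨v, hv⟩ := exists_ne (0 : ↥(U₂ ⊓ U0 F))
    exact ⟨v, v.2, fun h => hv (Subtype.ext h)⟩
  have hmove : ∀ s : S', k * ((s : T) : AW F) * k⁻¹ ∈ P ∧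
      k * ((s : T) : AW F) * k⁻¹ ∈ TT U₂ := by
    intro s
    obtain ⟨hsH, hsU⟩ := Subgroup.mem_inf.1 (s : T).2
    refine ⟨?_, mem_TT_mv.2 (by simpa [mul_assoc] using hsU)⟩
    have := hconj _ ⟨_, ⟨⟨hsU, hsH⟩, Subgroup.mem_subgroupOf.1 s.2⟩, rfl⟩
    simpa [hk, mul_assoc] using this
  have hkne : ∀ s : S', s ≠ 1 → k * ((s : T) : AW F) * k⁻¹ ≠ 1 := fun s hs h =>
    hs (Subtype.ext (Subtype.ext (conj_eq_one_iff.1 h)))
  haveI : Nontrivial S' := Finite.one_lt_card_iff_nontrivial.1 (by omega)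
  obtain ⟨s, hs⟩ := exists_ne (1 : S')
  obtain ⟨hp, σ, hσ, ⟨c, hc⟩, -, -, hsq⟩ :=
    field_involution (hU.mv hkH) hU₂ne hP (hmove s).1 (hmove s).2 (hkne s hs) hv hv0
  have hS2 : Nat.card S' ≤ 2 := by
    have hall : ∀ r : S', r = 1 ∨ r = s := by
      intro r
      refine or_iff_not_imp_left.2 fun hr => ?_
      have := field_involution_unique (hU.mv hkH) hU₂ne hP (hmove r).1 (hmove r).2 (hkne r hr)
        (hmove s).1 (hmove s).2 (hkne s hs) hv hv0
      exact Subtype.ext (Subtype.ext (mul_left_cancel (mul_right_cancel this)))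
    let f : Bool → S' := fun b => bif b then 1 else s
    have hf : Function.Surjective f := fun r => (hall r).elim (fun h => ⟨true, h.symm⟩)
      fun h => ⟨false, h.symm⟩
    simpa using Nat.card_le_card_of_surjective f hf
  refine ⟨hp, ?_, _, (hmove s).1, fun hsl => hc ?_⟩
  · rw [hA₂, show Nat.card A = 2 by omega] at hsq
    omega
  · obtain ⟨B, hB⟩ := hsl
    have hv1 : (k * ((s : T) : AW F) * k⁻¹) v = v :=
      (hmove s).2.1 v (AddSubgroup.mem_inf.1 hv).1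
    have e := hσ c v
    rw [hv1, ← hB, slHom_smul, hB, hv1] at e
    exact (smul_left_injective F hv0 e).symm

end H71.NatSL2
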